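import Groth.Agent.DualAbs.WedgePair
import Groth.Agent.S3203
import Groth.Agent.Omega.ProdDiff

/-!
# Exterior powers as direct summands of tensor products when the factorial is invertible
-/

set_option autoImplicit false
set_option linter.style.haveILetI false

universe u

open CategoryTheory CategoryTheory.Limits AlgebraicGeometry TopologicalSpace Opposite TensorProduct

noncomputable section

namespace Groth.Agent.BiReg94

open Groth.Agent.PullStalk.Sky Groth.Agent.PullStalk.Exact Groth.Agent.Omega.Stalks Groth.Agent.QCoh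
  Groth.Agent.ExtPowSt Groth.Agent.KFlat.StalkTensor Groth.Agent.ExtFilt.Stalkwise
  Groth.Agent.ExtFilt.Sheaf Groth.Agent.ExtFilt.Alg Groth.Agent.DualAbs.WedgePair

section Alg

variable (R : Type u) [CommRing R] (E : Type u) [AddCommGroup E] [Module R E] (i j : ℕ)

/-- `v ↦ (v₁ ∧ … ∧ vᵢ) ⊗ (vᵢ₊₁ ∧ … ∧ vᵢ₊ⱼ)` -/
def split : MultilinearMap R (fun _ : Fin (i + j) => E) ((⋀[R]^i E) ⊗[R] (⋀[R]^j E)) :=
  ((exteriorPower.ιMulti R i).toMultilinearMap.domCoprod
    (exteriorPower.ιMulti R j).toMultilinearMap).domDomCongr finSumFinEquiv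

theorem split_apply (v : Fin (i + j) → E) :
    split R E i j v = exteriorPower.ιMulti R i (fun k => v (Fin.castAdd j k)) ⊗ₜ[R]
      exteriorPower.ιMulti R j (fun k => v (Fin.natAdd i k)) := by
  simp [split, MultilinearMap.domCoprod, Function.comp_def]

/-- The antisymmetrisation of `split`. -/
def altSplit : E [⋀^Fin (i + j)]→ₗ[R] ((⋀[R]^i E) ⊗[R] (⋀[R]^j E)) :=
  MultilinearMap.alternatization (N' := (⋀[R]^i E) ⊗[R] (⋀[R]^j E)) (split R E i j)

theorem altSplit_apply (v : Fin (i + j) → E) :
    altSplit R E i j v = ∑ σ : Equiv.Perm (Fin (i + j)), Equiv.Perm.sign σ • split R E i j (v ∘ σ) :=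
  MultilinearMap.alternatization_apply (N' := (⋀[R]^i E) ⊗[R] (⋀[R]^j E)) (split R E i j) v

/-- The antisymmetrisation on the exterior power. -/
def altLin : ⋀[R]^(i + j) E →ₗ[R] (⋀[R]^i E) ⊗[R] (⋀[R]^j E) :=
  exteriorPower.alternatingMapLinearEquiv (N := (⋀[R]^i E) ⊗[R] (⋀[R]^j E)) (altSplit R E i j)

theorem altLin_apply (v : Fin (i + j) → E) :
    altLin R E i j (exteriorPower.ιMulti R (i + j) v) =
      ∑ σ : Equiv.Perm (Fin (i + j)), Equiv.Perm.sign σ • split R E i j (v ∘ σ) := by
  rw [altLin, exteriorPower.alternatingMapLinearEquiv_apply_ιMulti, altSplit_apply]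

theorem pairing_alt (v : Fin (i + j) → E) :
    pairing (altLin R E i j (exteriorPower.ιMulti R (i + j) v)) =
      (Nat.factorial (i + j) : R) • exteriorPower.ιMulti R (i + j) v := by
  rw [altLin_apply, map_sum]
  have h : ∀ σ : Equiv.Perm (Fin (i + j)),
      pairing (Equiv.Perm.sign σ • split R E i j (v ∘ σ)) = exteriorPower.ιMulti R (i + j) v := by
    intro σ
    rw [split_apply, Units.smul_def, map_zsmul, ← Units.smul_def, Function.comp_def, pairing_ιMulti,
      show Fin.append (fun k => v (σ (Fin.castAdd j k))) (fun k => v (σ (Fin.natAdd i k))) = v ∘ σ from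
        Fin.append_castAdd_natAdd (f := v ∘ σ),
      AlternatingMap.map_perm, smul_smul, Int.units_mul_self, one_smul]
  rw [Finset.sum_congr rfl fun σ _ => h σ, Finset.sum_const, Finset.card_univ, Fintype.card_perm,
    Fintype.card_fin, Nat.cast_smul_eq_nsmul]

end Alg

variable {X : Scheme.{u}} {i j : ℕ} {E Li Lj L : X.Modules} [E.IsQuasicoherent]

/-- `Λ^(i+j) E` is a direct summand of `Λ^i E ⊗ Λ^j E` when `(i+j)!` is invertible. -/
theorem exists_retract (Φi : Sys i E Li) (Φj : Sys j E Lj) (Φ : Sys (i + j) E L) (u : Γ(X, ⊤))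
    (hu : u * (Nat.factorial (i + j) : Γ(X, ⊤)) = 1) :
    ∃ (a : L ⟶ tensM Li Lj) (b : tensM Li Lj ⟶ L), a ≫ b = 𝟙 L := by
  obtain ⟨b, hb⟩ := exists_wedge_hom Φi Φj Φ
  let eq : ∀ x : X, (tensM Li Lj).presheaf.stalk x ≃ₗ[X.presheaf.stalk x]
      (⋀[X.presheaf.stalk x]^i (E.presheaf.stalk x)) ⊗[X.presheaf.stalk x]
        (⋀[X.presheaf.stalk x]^j (E.presheaf.stalk x)) := fun x =>
    (stalkTensorEquiv Li Lj x).trans (TensorProduct.congr (stalkEquiv Φi x) (stalkEquiv Φj x))
  let c : ∀ x : X, X.presheaf.stalk x := fun x => X.presheaf.germ ⊤ x trivial u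
  let ψ : ∀ x, L.presheaf.stalk x →ₗ[X.presheaf.stalk x] (tensM Li Lj).presheaf.stalk x := fun x =>
    (eq x).symm.toLinearMap ∘ₗ
      (c x • altLin (X.presheaf.stalk x) (E.presheaf.stalk x) i j) ∘ₗ
      (stalkEquiv Φ x).toLinearMap
  have hgen : ∀ x (v : Fin (i + j) → E.presheaf.stalk x),
      Loc ψ x ((stalkEquiv Φ x).symm (exteriorPower.ιMulti _ (i + j) v)) := by
    intro x v
    obtain ⟨U, hx, -, s, hs⟩ := exists_lifts E x v ⊤ trivial
    let m : Equiv.Perm (Fin (i + j)) → Γ(tensM Li Lj, U.1) := fun σ =>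
      tmulSec U.1 (wsec Φi U fun k => s (σ (Fin.castAdd j k))) (wsec Φj U fun k => s (σ (Fin.natAdd i k)))
    refine ⟨U.1, hx, wsec Φ U s, X.presheaf.map (homOfLE (le_top : U.1 ≤ ⊤)).op u •
      ∑ σ : Equiv.Perm (Fin (i + j)), Equiv.Perm.sign σ • m σ, ?_, fun y hy => ?_⟩
    · refine (stalkEquiv Φ x).injective ?_
      rw [LinearEquiv.apply_symm_apply, equiv_wedge, funext hs]
    · have hm : ∀ σ, eq y (germM (tensM Li Lj) U.1 y hy (m σ)) =
          split (X.presheaf.stalk y) (E.presheaf.stalk y) i j ((fun k => germM E U.1 y hy (s k)) ∘ σ) := by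
        intro σ
        change TensorProduct.congr _ _ (toTensor Li Lj y (tgerm Li Lj y U.1 hy _ _)) = _
        rw [toTensor_tgerm, TensorProduct.congr_tmul, equiv_wedge, equiv_wedge, split_apply]
        rfl
      have hg : eq y (germM (tensM Li Lj) U.1 y hy
          (∑ σ : Equiv.Perm (Fin (i + j)), Equiv.Perm.sign σ • m σ)) =
          altLin (X.presheaf.stalk y) (E.presheaf.stalk y) i j
            (exteriorPower.ιMulti _ (i + j) fun k => germM E U.1 y hy (s k)) := by
        rw [altLin_apply, germM, map_sum, map_sum]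
        refine Finset.sum_congr rfl fun σ _ => ?_
        rw [Units.smul_def, Units.smul_def, map_zsmul, map_zsmul]
        exact congrArg (_ • ·) (hm σ)
      refine (eq y).injective ?_
      rw [germM_smul, (eq y).map_smul, hg]
      simp only [ψ, LinearMap.comp_apply, LinearEquiv.coe_coe, LinearEquiv.apply_symm_apply,
        LinearMap.smul_apply]
      rw [equiv_wedge]
      congr 1
      exact (X.presheaf.germ_res_apply _ y hy u).symm
  obtain ⟨a, ha⟩ := ExtFilt.Stalkwise.exists_hom (φ := ψ) fun x t => by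
    rw [← (stalkEquiv Φ x).symm_apply_apply t]
    generalize stalkEquiv Φ x t = z
    have hz : z ∈ Submodule.span (X.presheaf.stalk x)
        (Set.range (exteriorPower.ιMulti (X.presheaf.stalk x) (i + j) (M := E.presheaf.stalk x))) := by
      rw [exteriorPower.ιMulti_span]; trivial
    induction hz using Submodule.span_induction with
    | mem z hz => obtain ⟨v, rfl⟩ := hz; exact hgen x v
    | zero => rw [map_zero]; exact loc_zero x
    | add p q _ _ hp hq => rw [map_add]; exact loc_add hp hq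
    | smul r p _ hp => rw [LinearEquiv.map_smul]; exact loc_smul r hp
  refine ⟨a, b, hom_ext_stalk fun x => LinearMap.ext fun t => ?_⟩
  rw [stalkLin_comp, ha, hb, Groth.Agent.Omega.ProdDiff.stalkLin_id]
  refine (stalkEquiv Φ x).injective ?_
  change stalkEquiv Φ x ((stalkEquiv Φ x).symm (pairing (eq x ((eq x).symm
    (c x • altLin (X.presheaf.stalk x) (E.presheaf.stalk x) i j (stalkEquiv Φ x t)))))) = stalkEquiv Φ x t
  rw [LinearEquiv.apply_symm_apply, LinearEquiv.apply_symm_apply, map_smul]
  generalize stalkEquiv Φ x t = z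
  suffices h : pairing ∘ₗ altLin (X.presheaf.stalk x) (E.presheaf.stalk x) i j =
      (Nat.factorial (i + j) : X.presheaf.stalk x) • LinearMap.id by
    have h' := LinearMap.congr_fun h z
    rw [LinearMap.comp_apply] at h'
    rw [h', LinearMap.smul_apply, LinearMap.id_apply, smul_smul]
    have hc : c x * (Nat.factorial (i + j) : X.presheaf.stalk x) = 1 := by
      have := congrArg (X.presheaf.germ ⊤ x trivial).hom hu
      rwa [map_mul, map_natCast, map_one] at this
    rw [hc, one_smul]
  refine exteriorPower.linearMap_ext (AlternatingMap.ext fun v => ?_)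
  simp only [LinearMap.compAlternatingMap_apply, LinearMap.comp_apply,
    LinearMap.smul_apply, LinearMap.id_apply]
  exact pairing_alt _ _ i j v

end Groth.Agent.BiReg94

end
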