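import Groth.Agent.BiReg94.Main
import Groth.Agent.BiReg94.Retract
import Groth.Agent.KSMod.Isotypic
import Groth.Agent.DefAmple27.Basic
import Groth.Agent.AmpCrit.TwistDev
import Groth.Agent.ExtPowSt.Exists

/-!
# Bigraded regularity of exterior powers on `P¹ × P¹`
-/

set_option autoImplicit false
set_option linter.style.haveILetI false

universe u

open CategoryTheory Limits AlgebraicGeometry
open Groth.Agent Groth.Agent.QuadP1

noncomputable section

namespace Groth.Agent.BiReg94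

variable {k : Type u} [Field k]

/-- What the induction carries. -/
def Good (M : (Quad k).Modules) (p q : ℤ) : Prop :=
  FlatMod.IsFinLocFree M ∧ W4c3multigrregular.IsBiReg 1 1 k M p q ∧
    Curv2.IsGloballyGenerated (W4c3multigrregular.twistBi 1 1 k M p q)

theorem good_retract {M N : (Quad k).Modules} {p q : ℤ} (a : M ⟶ N) (b : N ⟶ M) (h : a ≫ b = 𝟙 M)
    (hN : Good N p q) : Good M p q := by
  haveI := isNoetherian_quad (k := k)
  have hT : ∀ c d : ℤ, (twQ k c d).map a ≫ (twQ k c d).map b = 𝟙 _ := fun c d => by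
    rw [← Functor.map_comp, h, CategoryTheory.Functor.map_id]
  refine ⟨KSMod.isFinLocFree_of_retract a b h hN.1, fun u₁ u₂ hu => ?_, ?_⟩
  · have h' := hN.2.1 u₁ u₂ hu
    rw [twistBi_eq] at h' ⊢
    exact AmpCrit.TwistDev.subsingleton_HH_of_retract _ _ (hT _ _) _ h'
  · have h' := hN.2.2
    rw [twistBi_eq] at h' ⊢
    refine DefAmple27.gg_of_epi ((twQ k p q).map b) ⟨fun g g' hg => ?_⟩ h'
    have h'' := congrArg (fun z => (twQ k p q).map a ≫ z) hg
    exact ((Category.id_comp g).symm.trans (congrArg (· ≫ g) (hT p q)).symm).trans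
      (((Category.assoc _ _ _).trans (h''.trans (Category.assoc _ _ _).symm)).trans
        ((congrArg (· ≫ g') (hT p q)).trans (Category.id_comp g')))

theorem isFinLocFree_one : FlatMod.IsFinLocFree (Coh.structureModule (Quad k)) :=
  fun x => let ⟨U, hx, e⟩ :=
    ProjTwist.isFinLocFreeOfRank_one (LFFrame.isInvertible_structureModule (Quad k)) x
  ⟨U, 1, hx, e⟩

theorem good_one : Good (CohB1.tensorMod (Coh.structureModule (Quad k)) (Coh.structureModule (Quad k))) 0 0 := by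
  letI := quadOver k
  refine ⟨KRR49.isFinLocFree_tensorMod isFinLocFree_one isFinLocFree_one, fun u₁ u₂ hu => ?_, ?_⟩
  · rw [twistBi_eq]
    refine subsingleton_hh_of_iso (ProjTwist.tensCongr (ProjTwist.oneTens _) (Iso.refl _) ≪≫
      ProjTwist.oneTens _).symm _ ?_
    rcases (show 3 ≤ u₁ + u₂ ∨ u₁ + u₂ = 1 ∨ u₁ + u₂ = 2 by omega) with h | h | h
    · exact subsingleton_three _ _ h
    · rw [h]
      exact h1_OO k (Or.inl ⟨by omega, by omega⟩)
    · rw [h]
      exact h2_OO k (Or.elim (show u₁ ≤ 1 ∨ u₂ ≤ 1 by omega) (fun h' => Or.inl (by omega)) (fun h' => Or.inr (by omega)))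
  · rw [twistBi_eq]
    refine DefAmple27.gg_of_epi (?_ : Coh.structureModule (Quad k) ≅ _).hom inferInstance ?_
    · exact (iso_zero (Coh.structureModule (Quad k))).some.symm ≪≫
        ProjTwist.tensCongr (ProjTwist.oneTens (Coh.structureModule (Quad k))).symm (Iso.refl _)
    · exact ⟨PUnit, Sigma.desc fun _ => 𝟙 (Coh.structureModule (Quad k)),
        epi_of_epi_fac (Sigma.ι_desc (fun _ : PUnit.{u + 1} => 𝟙 (Coh.structureModule (Quad k))) PUnit.unit)⟩

theorem good_tensor {M N : (Quad k).Modules} {p q m n : ℤ} (hM : Good M p q) (hN : Good N m n) :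
    Good (CohB1.tensorMod M N) (p + m) (q + n) := by
  haveI := isNoetherian_quad (k := k)
  refine ⟨KRR49.isFinLocFree_tensorMod hM.1 hN.1, isBiReg_tensor hM.1 hN.1 hM.2.1 hN.2.1 hM.2.2 hN.2.2, ?_⟩
  have hcoh : Coh.IsCoh (CohB1.tensorMod N (OO k m n)) :=
    PerfTri.Bounded.isCoh_of_isFinLocFree (KRR49.isFinLocFree_tensorMod hN.1 (fun x =>
      let ⟨U, hx, e⟩ := ProjTwist.isFinLocFreeOfRank_one (isInvertible_OO k m n) x
      ⟨U, 1, hx, e⟩))
  have h₁ := hM.2.2
  have h₂ := hN.2.2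
  rw [twistBi_eq] at h₁ h₂ ⊢
  have h := DefAmple27.gg_tensor h₁ hcoh h₂
  exact DefAmple27.gg_of_epi (ProjTwist.tensAssoc M (OO k p q) _ ≪≫ ProjTwist.tensCongr (Iso.refl M)
    ((ProjTwist.tensAssoc _ N _).symm ≪≫ ProjTwist.tensCongr (ProjTwist.tensComm _ _) (Iso.refl _) ≪≫
      ProjTwist.tensAssoc N _ _ ≪≫ ProjTwist.tensCongr (Iso.refl N) (nonempty_OO_tensor k p q m n).some) ≪≫
    (ProjTwist.tensAssoc M N _).symm).hom inferInstance h

theorem exists_inv [CharZero k] (n : ℕ) : ∃ u : Γ(Quad k, ⊤), u * (Nat.factorial n : Γ(Quad k, ⊤)) = 1 := by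
  let f : k →+* Γ(Quad k, ⊤) :=
    (((Scheme.ΓSpecIso (CommRingCat.of k)).inv ≫ (p₁ k ≫ CohB1.ProjSpace.toSpec 1 k).appTop)).hom
  refine ⟨f ((Nat.factorial n : k)⁻¹), ?_⟩
  rw [← map_natCast f, ← map_mul, inv_mul_cancel₀ (by exact_mod_cast Nat.factorial_ne_zero n), map_one]

theorem good_extPow [CharZero k] {G : (Quad k).Modules} {p q : ℤ} (hG : Good G p q) :
    ∀ (j : ℕ) (L : (Quad k).Modules), ExtPow.IsExtPow j G L → Good L (j * p) (j * q) := by
  haveI : G.IsQuasicoherent := PerfTri.Betti.isQuasicoherent_of_isFinLocFree hG.1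
  intro j
  induction j with
  | zero =>
    intro L hL
    have h0 := S3203.isExtPow_zero (X := Quad k) G
    obtain ⟨u, hu⟩ := exists_inv (k := k) (0 + 0)
    obtain ⟨a, b, h⟩ := exists_retract (i := 0) (j := 0) ⟨h0.choose, h0.choose_spec⟩ ⟨h0.choose, h0.choose_spec⟩
      ⟨hL.choose, hL.choose_spec⟩ u hu
    have e0 : ((0 : ℕ) : ℤ) * p = 0 ∧ ((0 : ℕ) : ℤ) * q = 0 := by simp
    rw [e0.1, e0.2]
    exact good_retract a b h good_one
  | succ j ih =>
    intro L hL
    obtain ⟨L', hL'⟩ := ExtPowSt.Exists.exists_isExtPow j G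
    have h1 := S3203.isExtPow_one (X := Quad k) G
    have hL₁ : ExtPow.IsExtPow (1 + j) G L := by rwa [add_comm]
    obtain ⟨u, hu⟩ := exists_inv (k := k) (1 + j)
    obtain ⟨a, b, h⟩ := exists_retract ⟨h1.choose, h1.choose_spec⟩ ⟨hL'.choose, hL'.choose_spec⟩
      ⟨hL₁.choose, hL₁.choose_spec⟩ u hu
    have e1 : ∀ z : ℤ, ((j + 1 : ℕ) : ℤ) * z = z + (j : ℤ) * z := fun z => by push_cast; ring
    rw [e1 p, e1 q]
    exact good_retract a b h (good_tensor hG (ih L' hL'))

end Groth.Agent.BiReg94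

end
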