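import Groth.Prelude.Def_W4c3multigrregularBiProj
import Groth.Agent.QuadP1.Main
import Groth.Agent.ResK0.GenEpi
import Groth.Agent.ResK0.VbKernel
import Groth.Agent.ResK0.Rank
import Groth.Agent.LiftLib.KerUnit
import Groth.Agent.CycLib.DevDegVan
import Groth.Agent.S4643
import Groth.Agent.S10829
import Groth.Agent.KRR49.KoszulClass

/-!
# Bigraded regularity of tensor products on `P¹ × P¹`
-/

set_option autoImplicit false
set_option maxHeartbeats 60000
set_option linter.style.haveILetI false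

universe u

open CategoryTheory Limits AlgebraicGeometry
open Groth.Agent Groth.Agent.QuadP1

noncomputable section

namespace Groth.Agent.BiReg94

variable {k : Type u} [Field k]

theorem isNoetherian_quad : IsNoetherian (Quad k) := by
  haveI := ProjProper.Basic.isProper_toSpec 1 k
  haveI : IsLocallyNoetherian (Quad k) :=
    LocallyOfFiniteType.isLocallyNoetherian (p₁ k ≫ CohB1.ProjSpace.toSpec 1 k)
  haveI : CompactSpace (Quad k) :=
    QuasiCompact.compactSpace_of_compactSpace (p₁ k ≫ CohB1.ProjSpace.toSpec 1 k)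
  exact {}

theorem subsingleton_three (M : (Quad k).Modules) (i : ℕ) (hi : 3 ≤ i) :
    Subsingleton (Coh.HH (Quad k) M i) := by
  haveI := isNoetherian_quad (k := k)
  haveI := ProjProper.Basic.isProper_toSpec 1 k
  refine CycLib.Dev.subsingleton_HH_of_support_dim M isClosed_univ (fun x hx => absurd trivial hx) (d := 2) ?_ i
    (by omega)
  have h := S4643.result (CohB1.ProjSpace.toSpec 1 k) (CohB1.ProjSpace.toSpec 1 k)
  rw [S10829.result k 1] at h
  calc topologicalKrullDim (Set.univ : Set (Quad k)) ≤ topologicalKrullDim (Quad k) :=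
        Topology.IsEmbedding.subtypeVal.topologicalKrullDim_le
    _ ≤ _ := by rw [h]; norm_num

/-- A globally generated locally free module as a quotient of a free one. -/
theorem exists_seq {A : (Quad k).Modules} (hA : FlatMod.IsFinLocFree A)
    (hgg : Curv2.IsGloballyGenerated A) :
    ∃ (r : ℕ) (S : ShortComplex (Quad k).Modules), S.ShortExact ∧ FlatMod.IsFinLocFree S.X₁ ∧
      Nonempty (S.X₂ ≅ ∐ fun _ : Fin r => Coh.structureModule (Quad k)) ∧ Nonempty (S.X₃ ≅ A) := by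
  haveI := isNoetherian_quad (k := k)
  obtain ⟨r, p, hp⟩ := ResK0.GenEpi.exists_free_epi (PerfTri.Bounded.isCoh_of_isFinLocFree hA) hgg
  haveI := hp
  have hS : (ShortComplex.mk (kernel.ι p) p (kernel.condition p)).ShortExact :=
    { exact := ShortComplex.exact_of_f_is_kernel _ (kernelIsKernel p) }
  exact ⟨r, _, hS, ResK0.VbKernel.isFinLocFree_X₁ hS (ResK0.Rank.isFinLocFree_freeMod r) hA, ⟨Iso.refl _⟩,
    ⟨Iso.refl _⟩⟩

/-- Vanishing for `M ⊗ A` from vanishing for `M` and for `M ⊗ K`. -/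
theorem subsingleton_step {A : (Quad k).Modules} (hA : FlatMod.IsFinLocFree A) {r : ℕ}
    {S : ShortComplex (Quad k).Modules} (hS : S.ShortExact)
    (h₂ : Nonempty (S.X₂ ≅ ∐ fun _ : Fin r => Coh.structureModule (Quad k))) (h₃ : Nonempty (S.X₃ ≅ A))
    (M : (Quad k).Modules) (i : ℕ) (hM : Subsingleton (Coh.HH (Quad k) M i))
    (hK : Subsingleton (Coh.HH (Quad k) (CohB1.tensorMod M S.X₁) (i + 1))) :
    Subsingleton (Coh.HH (Quad k) (CohB1.tensorMod M A) i) := by
  letI := quadOver k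
  obtain ⟨e₂⟩ := h₂
  obtain ⟨e₃⟩ := h₃
  let T := (DCoh.tensorBi (X := Quad k)).flip.obj M
  haveI : PreservesColimitsOfSize.{u, u} T := ProjTwist.Pn.preservesColimits_tensorFlip _ M
  haveI : PreservesColimitsOfSize.{0, 0} T := preservesColimitsOfSize_shrink.{0, u, 0, u} _
  let T' := (DCoh.tensorBi (X := Quad k)).obj M
  have hS' : (S.map T').ShortExact := KFlat.shortExact_tensorBi_map hS
    (LiftLib.tensorMono_of_isFinLocFree (KFlat.LocFree.isFinLocFree_of_iso e₃.symm hA)) M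
  haveI : Subsingleton (Coh.HH (Quad k) (S.map T').X₁ (i + 1)) := hK
  haveI : Subsingleton (Coh.HH (Quad k) (S.map T').X₂ i) :=
    subsingleton_hh_of_iso ((ProjTwist.tensCongr (Iso.refl M) e₂) ≪≫ ProjTwist.tensComm _ _ ≪≫
      PreservesCoproduct.iso T (fun _ : Fin r => Coh.structureModule (Quad k)) ≪≫
      Sigma.mapIso fun _ => ProjTwist.oneTens M).symm i (subsingleton_coprod_const k M i hM)
  exact subsingleton_hh_of_iso (ProjTwist.tensCongr (Iso.refl M) e₃) i (CohLin.subsingleton_X₃ hS')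

/-- The twists of regularity `(0, 0)`. -/
def Reg₀ (A : (Quad k).Modules) : Prop :=
  ∀ u₁ u₂ : ℕ, 0 < u₁ + u₂ → Subsingleton (Coh.HH (Quad k) (CohB1.tensorMod A (OO k (-u₁) (-u₂))) (u₁ + u₂))

theorem reg₀_tensor {A B : (Quad k).Modules} (hA : FlatMod.IsFinLocFree A) (hB : FlatMod.IsFinLocFree B)
    (hgA : Curv2.IsGloballyGenerated A) (hgB : Curv2.IsGloballyGenerated B) (rA : Reg₀ A) (rB : Reg₀ B) :
    Reg₀ (CohB1.tensorMod A B) := by
  letI := quadOver k
  intro u₁ u₂ hu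
  obtain ⟨r, S, hS, hK, h₂, h₃⟩ := exists_seq hA hgA
  refine subsingleton_hh_of_iso ((ProjTwist.tensAssoc A B _) ≪≫ ProjTwist.tensComm _ _).symm _
    (subsingleton_step hA hS h₂ h₃ _ _ (rB u₁ u₂ hu) ?_)
  rcases (show 2 ≤ u₁ + u₂ ∨ u₁ + u₂ = 1 by omega) with h | h
  · exact subsingleton_three _ _ (by omega)
  rw [h]
  set O' := OO k (-(u₁ : ℤ)) (-(u₂ : ℤ)) with hO'
  have hK2 : Subsingleton (Coh.HH (Quad k) (CohB1.tensorMod S.X₁ O') 2) := by
    let T := twQ k (-(u₁ : ℤ)) (-(u₂ : ℤ))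
    haveI : PreservesColimitsOfSize.{u, u} T := ProjTwist.Pn.preservesColimits_tensorFlip _ O'
    haveI : PreservesColimitsOfSize.{0, 0} T := preservesColimitsOfSize_shrink.{0, u, 0, u} _
    haveI : Subsingleton (Coh.HH (Quad k) (S.map T).X₂ (1 + 1)) :=
      subsingleton_hh_of_iso (T.mapIso h₂.some ≪≫
        PreservesCoproduct.iso T (fun _ : Fin r => Coh.structureModule (Quad k)) ≪≫
        Sigma.mapIso fun _ => ProjTwist.oneTens O').symm _
        (subsingleton_coprod_const k O' _ (h2_OO k (Or.elim (show u₁ ≤ 1 ∧ u₂ = 0 ∨ u₁ = 0 ∧ u₂ ≤ 1 by omega)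
          (fun h' => Or.inl (by omega)) (fun h' => Or.inr (by omega)))))
    haveI : Subsingleton (Coh.HH (Quad k) (S.map T).X₃ 1) :=
      subsingleton_hh_of_iso (T.mapIso h₃.some).symm _ (h ▸ rA u₁ u₂ hu)
    exact CohLin.subsingleton_X₁ (ProjTwist.shortExact_tensor (isInvertible_OO k _ _) hS)
  obtain ⟨r', S', hS', -, h₂', h₃'⟩ := exists_seq hB hgB
  exact subsingleton_hh_of_iso
    (ProjTwist.tensComm (CohB1.tensorMod S.X₁ O') B ≪≫
      ProjTwist.tensCongr (Iso.refl B) (ProjTwist.tensComm _ _) ≪≫ (ProjTwist.tensAssoc B O' S.X₁).symm) _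
    (subsingleton_step hB hS' h₂' h₃' _ 2 hK2 (subsingleton_three _ _ le_rfl))

theorem twistBi_eq (G : (Quad k).Modules) (a b : ℤ) :
    W4c3multigrregular.twistBi 1 1 k G a b = CohB1.tensorMod G (OO k a b) := by
  delta W4c3multigrregular.twistBi W4c3multigrregular.lineBundle
  rfl

/-- Twisting twice. -/
theorem nonempty_twist_twist (G : (Quad k).Modules) (a b c d e f : ℤ) (h : a + c = e) (h' : b + d = f) :
    Nonempty (CohB1.tensorMod (CohB1.tensorMod G (OO k a b)) (OO k c d) ≅ CohB1.tensorMod G (OO k e f)) := by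
  subst h; subst h'
  exact ⟨ProjTwist.tensAssoc _ _ _ ≪≫ ProjTwist.tensCongr (Iso.refl G) (nonempty_OO_tensor k a b c d).some⟩

theorem reg₀_twist {G : (Quad k).Modules} {p q : ℤ} (h : W4c3multigrregular.IsBiReg 1 1 k G p q) :
    Reg₀ (CohB1.tensorMod G (OO k p q)) := fun u₁ u₂ hu => by
  have h' := h u₁ u₂ hu
  rw [twistBi_eq] at h'
  exact subsingleton_hh_of_iso
    (nonempty_twist_twist G p q (-(u₁ : ℤ)) (-(u₂ : ℤ)) (p - u₁) (q - u₂) (by ring) (by ring)).some.symm _ h'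

theorem isBiReg_tensor {G₁ G₂ : (Quad k).Modules} (hG₁ : FlatMod.IsFinLocFree G₁)
    (hG₂ : FlatMod.IsFinLocFree G₂) {p q m n : ℤ} (hreg₁ : W4c3multigrregular.IsBiReg 1 1 k G₁ p q)
    (hreg₂ : W4c3multigrregular.IsBiReg 1 1 k G₂ m n)
    (hgg₁ : Curv2.IsGloballyGenerated (W4c3multigrregular.twistBi 1 1 k G₁ p q))
    (hgg₂ : Curv2.IsGloballyGenerated (W4c3multigrregular.twistBi 1 1 k G₂ m n)) :
    W4c3multigrregular.IsBiReg 1 1 k (CohB1.tensorMod G₁ G₂) (p + m) (q + n) := by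
  letI := quadOver k
  intro u₁ u₂ hu
  rw [twistBi_eq] at hgg₁ hgg₂ ⊢
  have hlf : ∀ {G : (Quad k).Modules} (_ : FlatMod.IsFinLocFree G) (a b : ℤ),
      FlatMod.IsFinLocFree (CohB1.tensorMod G (OO k a b)) := fun hG a b =>
    KRR49.isFinLocFree_tensorMod hG (fun x => let ⟨U, hx, e⟩ := ProjTwist.isFinLocFreeOfRank_one (isInvertible_OO k a b) x; ⟨U, 1, hx, e⟩)
  have h := reg₀_tensor (hlf hG₁ p q) (hlf hG₂ m n) hgg₁ hgg₂ (reg₀_twist hreg₁) (reg₀_twist hreg₂) u₁ u₂ hu
  refine subsingleton_hh_of_iso (ProjTwist.tensCongr ?_ (Iso.refl _) ≪≫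
    (nonempty_twist_twist (CohB1.tensorMod G₁ G₂) (p + m) (q + n) (-(u₁ : ℤ)) (-(u₂ : ℤ)) (p + m - u₁) (q + n - u₂)
      (by ring) (by ring)).some) _ h
  exact ProjTwist.tensAssoc G₁ (OO k p q) _ ≪≫ ProjTwist.tensCongr (Iso.refl G₁)
    ((ProjTwist.tensAssoc _ G₂ _).symm ≪≫ ProjTwist.tensCongr (ProjTwist.tensComm _ _) (Iso.refl _) ≪≫
      ProjTwist.tensAssoc G₂ _ _ ≪≫ ProjTwist.tensCongr (Iso.refl G₂) (nonempty_OO_tensor k p q m n).some) ≪≫
    (ProjTwist.tensAssoc G₁ G₂ _).symm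

end Groth.Agent.BiReg94

end
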